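import Groth.Prelude.Def_W4c6eohyperellchar2Gc
import Mathlib.LinearAlgebra.Quotient.Basic
import Mathlib.LinearAlgebra.LinearIndependent.Defs
import Mathlib.LinearAlgebra.LinearIndependent.Lemmas
import Mathlib.Tactic

/-!
The explicit module `GcMod` with its operators `F` and `V`.
-/

namespace Groth.Agent.GcModLib

open W4c6eohyperellchar2

variable {c : ℕ} {k : Type*} [Field k]

theorem coefX_X (j n : ℕ) : coefX (X c k j) n = if n = j ∧ 1 ≤ n ∧ n ≤ c then 1 else 0 := by
  unfold coefX X
  split_ifs <;> grind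

theorem coefY_Y (j n : ℕ) : coefY (Y c k j) n = if n = j ∧ 1 ≤ n ∧ n ≤ c then 1 else 0 := by
  unfold coefY Y
  split_ifs <;> grind

theorem F_X_even {t : ℕ} (h : 2 * t ≤ c) : F c k (X c k (2 * t)) = X c k t := by
  refine Prod.ext (funext fun i => ?_) (funext fun i => ?_) <;> have := i.isLt <;>
    simp only [F, coefX_X] <;> simp only [X, Pi.zero_apply] <;> split_ifs <;> grind

theorem F_X_odd {t : ℕ} (h : 2 * t + 1 ≤ c) : F c k (X c k (2 * t + 1)) = Y c k (c - t) := by
  refine Prod.ext (funext fun i => ?_) (funext fun i => ?_) <;> have := i.isLt <;>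
    simp only [F, coefX_X] <;> simp only [Y, Pi.zero_apply] <;> split_ifs <;> grind

section V

variable [ExpChar k 2] [PerfectRing k 2]

theorem V_X {j : ℕ} (hj : j ≤ c) (h : c < 2 * j) :
    V c k (X c k j) = Y c k (2 * c - 2 * j + 1) := by
  refine Prod.ext rfl (funext fun i => ?_)
  have := i.isLt
  simp only [V, coefX_X]
  simp only [coefY, X, Y, Pi.zero_apply, dite_eq_ite]
  split_ifs <;> first | omega | simp

theorem V_Y {t : ℕ} (h : 2 * t ≤ c) : V c k (Y c k t) = Y c k (2 * t) := by
  refine Prod.ext rfl (funext fun i => ?_)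
  have := i.isLt
  simp only [V, coefY_Y]
  simp only [Y, coefX, Pi.zero_apply, dite_eq_ite]
  split_ifs <;> first | omega | simp

theorem V_iterate_Y {m : ℕ} : ∀ n : ℕ, 2 ^ n * m ≤ c →
    (V c k)^[n] (Y c k m) = Y c k (2 ^ n * m) := by
  intro n
  induction n with
  | zero => simp
  | succ n ih =>
    intro hn
    rw [pow_succ', mul_assoc] at hn
    rw [Function.iterate_succ_apply', ih (by omega), V_Y hn, pow_succ', mul_assoc]

theorem F_iterate_X {l : ℕ} : ∀ e : ℕ, 2 ^ e * l ≤ c →
    (F c k)^[e] (X c k (2 ^ e * l)) = X c k l := by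
  intro e
  induction e with
  | zero => simp
  | succ e ih =>
    intro he
    rw [pow_succ', mul_assoc] at he ⊢
    rw [Function.iterate_succ_apply, F_X_even he, ih (by omega)]

theorem relation [CharP k 2] (j e l : ℕ) (hj : j = 2 ^ e * l) (hl : Odd l) (hjc : j ≤ c)
    (j' n : ℕ) (hj'c : j' ≤ c) (hcj' : c < 2 * j')
    (hn : 2 ^ n * (2 * c - 2 * j' + 1) = c - (l - 1) / 2) :
    (F c k)^[e + 1] (X c k j) + (V c k)^[n + 1] (X c k j') = 0 := by
  subst hj
  rw [Function.iterate_succ_apply', F_iterate_X e hjc, Function.iterate_succ_apply,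
    V_X hj'c hcj', V_iterate_Y n (by omega), hn]
  obtain ⟨t, rfl⟩ := hl
  have : 2 * t + 1 ≤ c := le_trans (Nat.le_mul_of_pos_left _ (Nat.two_pow_pos e)) hjc
  rw [F_X_odd this, show (2 * t + 1 - 1) / 2 = t by omega]
  refine Prod.ext (funext fun i => ?_) (funext fun i => ?_) <;> simp [CharTwo.add_self_eq_zero]

end V

theorem eq_sum (v : GcMod c k) : v = (∑ i : Fin c, v.1 i • X c k (i.val + 1))
    + ∑ i : Fin c, v.2 i • Y c k (i.val + 1) := by
  refine Prod.ext (funext fun i => ?_) (funext fun i => ?_) <;>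
    simp [X, Y, Prod.fst_sum, Prod.snd_sum, Finset.sum_apply, Fin.val_inj]

theorem X_mem {N : Submodule k (GcMod c k)} (hF : ∀ v ∈ N, F c k v ∈ N)
    (hX : ∀ j : ℕ, c < 2 * j → j ≤ c → X c k j ∈ N) :
    ∀ d j : ℕ, 1 ≤ j → j ≤ c → c - j = d → X c k j ∈ N := by
  intro d
  induction d using Nat.strong_induction_on with
  | _ d ih =>
    intro j hj1 hjc hd
    by_cases h : c < 2 * j
    · exact hX j h hjc
    · rw [← F_X_even (show 2 * j ≤ c by omega)]
      exact hF _ (ih (c - 2 * j) (by omega) (2 * j) (by omega) (by omega) rfl)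

theorem Y_mem [ExpChar k 2] [PerfectRing k 2] {N : Submodule k (GcMod c k)}
    (hV : ∀ v ∈ N, V c k v ∈ N) (hX : ∀ j : ℕ, c < 2 * j → j ≤ c → X c k j ∈ N) :
    ∀ m : ℕ, 1 ≤ m → m ≤ c → Y c k m ∈ N := by
  intro m
  induction m using Nat.strong_induction_on with
  | _ m ih =>
    intro hm1 hmc
    rcases Nat.even_or_odd' m with ⟨t, rfl | rfl⟩
    · rw [← V_Y hmc]
      exact hV _ (ih t (by omega) (by omega) (by omega))
    · have h := hV _ (hX (c - t) (by omega) (by omega))
      rwa [V_X (by omega) (by omega), show 2 * c - 2 * (c - t) + 1 = 2 * t + 1 by omega] at h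

theorem eq_top [ExpChar k 2] [PerfectRing k 2] (N : Submodule k (GcMod c k))
    (hF : ∀ v ∈ N, F c k v ∈ N) (hV : ∀ v ∈ N, V c k v ∈ N)
    (hX : ∀ j : ℕ, c < 2 * j → j ≤ c → X c k j ∈ N) : N = ⊤ := by
  refine eq_top_iff.mpr fun v _ => ?_
  rw [eq_sum v]
  exact add_mem (sum_mem fun i _ => N.smul_mem _ (X_mem hF hX _ _ (by omega) (by omega) rfl))
    (sum_mem fun i _ => N.smul_mem _ (Y_mem hV hX _ (by omega) (by omega)))

theorem quotient_basis [ExpChar k 2] [PerfectRing k 2] :
    LinearIndependent k (fun j : {j : ℕ // c < 2 * j ∧ j ≤ c} =>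
        Submodule.mkQ (Submodule.span k (Set.range (F c k) ∪ Set.range (V c k))) (X c k j.1)) ∧
      Submodule.span k (Set.range (fun j : {j : ℕ // c < 2 * j ∧ j ≤ c} =>
        Submodule.mkQ (Submodule.span k (Set.range (F c k) ∪ Set.range (V c k))) (X c k j.1)))
        = ⊤ := by
  obtain ⟨S, hS⟩ : ∃ S, Submodule.span k (Set.range (F c k) ∪ Set.range (V c k)) = S := ⟨_, rfl⟩
  rw [hS]
  constructor
  · let π : GcMod c k →ₗ[k] ({j : ℕ // c < 2 * j ∧ j ≤ c} → k) :=
      { toFun := fun v j => coefX v j.1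
        map_add' := fun v w => by funext j; simp only [coefX, Pi.add_apply]; split_ifs <;> simp
        map_smul' := fun a v => by funext j; simp only [coefX, Pi.smul_apply]; split_ifs <;> simp }
    have hle : S ≤ LinearMap.ker π := by
      rw [← hS, Submodule.span_le]
      rintro _ (⟨v, rfl⟩ | ⟨v, rfl⟩) <;> ext ⟨j, hj⟩
      · show coefX (F c k v) j = 0
        simp only [coefX, F]
        rw [dif_pos (by omega), dif_neg (by omega)]
        simp
      · show coefX (V c k v) j = 0
        simp [coefX, V]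
    apply LinearIndependent.of_comp (S.liftQ π hle)
    classical
    have : (⇑(S.liftQ π hle) ∘ fun j : {j : ℕ // c < 2 * j ∧ j ≤ c} => S.mkQ (X c k j.1))
        = fun j => Pi.single j 1 := by
      funext j j'
      obtain ⟨j, hj⟩ := j
      obtain ⟨j', hj'⟩ := j'
      show coefX (X c k j) j' = _
      rw [coefX_X, Pi.single_apply]
      simp only [Subtype.mk.injEq]
      split_ifs <;> first | rfl | omega
    rw [this]
    exact Pi.linearIndependent_single_one _ k
  · refine eq_top_iff.mpr fun q _ => ?_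
    obtain ⟨v, rfl⟩ := Submodule.mkQ_surjective S q
    have hY : ∀ m, 1 ≤ m → m ≤ c → S.mkQ (Y c k m) = 0 := by
      intro m hm1 hmc
      rw [Submodule.mkQ_apply, Submodule.Quotient.mk_eq_zero, ← hS]
      rcases Nat.even_or_odd' m with ⟨t, rfl | rfl⟩
      · exact Submodule.subset_span (Or.inr ⟨Y c k t, V_Y hmc⟩)
      · refine Submodule.subset_span (Or.inr ⟨X c k (c - t), ?_⟩)
        rw [V_X (by omega) (by omega), show 2 * c - 2 * (c - t) + 1 = 2 * t + 1 by omega]
    rw [eq_sum v, map_add, map_sum, map_sum]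
    refine add_mem (sum_mem fun i _ => ?_) (sum_mem fun i _ => ?_)
    · rw [map_smul]
      refine Submodule.smul_mem _ _ ?_
      by_cases h : c < 2 * (i.val + 1)
      · exact Submodule.subset_span ⟨⟨i.val + 1, h, i.isLt⟩, rfl⟩
      · have : S.mkQ (X c k (i.val + 1)) = 0 := by
          rw [Submodule.mkQ_apply, Submodule.Quotient.mk_eq_zero, ← hS]
          exact Submodule.subset_span (Or.inl ⟨_, F_X_even (by omega)⟩)
        rw [this]
        exact zero_mem _
    · rw [map_smul, hY _ (by omega) (by omega), smul_zero]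
      exact zero_mem _

end Groth.Agent.GcModLib
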